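import Cfsg.Agent.Lib.Spor.Cos.Fi24Mult.Defs

/-! The relators on the three sheets, checked at a range of points. -/

set_option autoImplicit false
set_option maxRecDepth 100000
set_option maxHeartbeats 4000000
set_option Elab.async false

namespace Cfsg.Agent.Spor.Cos.Fi24Mult

theorem chkX_blk5 : allBlock chkX 306936 8192 5 = true := by decide +kernel

theorem chkX_blk6 : allBlock chkX 306936 8192 6 = true := by decide +kernel

theorem chkX_blk7 : allBlock chkX 306936 8192 7 = true := by decide +kernel

theorem chkX_blk8 : allBlock chkX 306936 8192 8 = true := by decide +kernel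

theorem chkX_blk9 : allBlock chkX 306936 8192 9 = true := by decide +kernel

end Cfsg.Agent.Spor.Cos.Fi24Mult
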