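import Cfsg.Agent.Lib.Spor.Cos.Fi24Mult.Defs

/-! The relators on the three sheets, checked at a range of points. -/

set_option autoImplicit false
set_option maxRecDepth 100000
set_option maxHeartbeats 4000000
set_option Elab.async false

namespace Cfsg.Agent.Spor.Cos.Fi24Mult

theorem chkX_blk35 : allBlock chkX 306936 8192 35 = true := by decide +kernel

theorem chkX_blk36 : allBlock chkX 306936 8192 36 = true := by decide +kernel

theorem chkX_blk37 : allBlock chkX 306936 8192 37 = true := by decide +kernel

end Cfsg.Agent.Spor.Cos.Fi24Mult
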